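import Mathlib.CategoryTheory.Elements
import Mathlib.CategoryTheory.Subobject.ArtinianObject
import Mathlib.CategoryTheory.Limits.Types.Colimits
import Mathlib.CategoryTheory.Limits.Preserves.Shapes.BinaryProducts
import Mathlib.CategoryTheory.Limits.Preserves.Shapes.Equalizers
import Mathlib.CategoryTheory.Limits.Types.Equalizers
import Mathlib.CategoryTheory.Limits.Preserves.Finite
import Mathlib.CategoryTheory.Limits.FunctorCategory.Basic
import Mathlib.CategoryTheory.Filtered.Basic
import Mathlib.CategoryTheory.Yoneda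

/-!
# Strict pro-representability of left exact functors on artinian categories
-/

set_option autoImplicit false
set_option maxHeartbeats 400000
set_option linter.style.haveILetI false

universe u

open CategoryTheory CategoryTheory.Limits Opposite

namespace GrothLib.StrictPro26

variable {C : Type u} [SmallCategory C] (F : C ⥤ Type u)

/-- An element is minimal when it comes from no proper subobject. -/
def IsMin (p : F.Elements) : Prop :=
  ∀ ⦃Y : C⦄ (m : Y ⟶ p.1) [Mono m] (y : F.obj Y), F.map m y = p.2 → IsIso m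

/-- The category of minimal elements. -/
abbrev J : Type u := ObjectProperty.FullSubcategory (IsMin F)

/-- Its objects. -/
abbrev D : J F ⥤ C := ObjectProperty.ι (IsMin F) ⋙ CategoryOfElements.π F

theorem exists_min [∀ X : C, IsArtinianObject X] (X : C) (x : F.obj X) :
    ∃ (p : J F) (m : p.obj.1 ⟶ X), F.map m p.obj.2 = x := by
  obtain ⟨S, ⟨s, hs⟩, hmin⟩ := wellFounded_lt.has_min {S : Subobject X | x ∈ Set.range (F.map S.arrow)}
    ⟨⊤, by
      refine ⟨F.map (inv (⊤ : Subobject X).arrow) x, ?_⟩
      rw [← Functor.map_comp_apply, IsIso.inv_hom_id, Functor.map_id_apply]⟩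
  refine ⟨⟨F.elementsMk _ s, fun Y m hm y hy => ?_⟩, S.arrow, hs⟩
  let m' : Y ⟶ (S : C) := m
  haveI : Mono m' := hm
  have hle : Subobject.mk (m' ≫ S.arrow) ≤ S := Subobject.mk_le_of_comm m' rfl
  have hmem : x ∈ Set.range (F.map (Subobject.mk (m' ≫ S.arrow)).arrow) := by
    refine ⟨F.map (Subobject.underlyingIso (m' ≫ S.arrow)).inv y, ?_⟩
    rw [← Functor.map_comp_apply, Subobject.underlyingIso_arrow, Functor.map_comp_apply]
    exact (congrArg (F.map S.arrow) hy).trans hs
  have heq : Subobject.mk (m' ≫ S.arrow) = S := by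
    by_contra hne
    exact hmin _ hmem (lt_of_le_of_ne hle hne)
  have h1 : (Subobject.isoOfMkEq (m' ≫ S.arrow) S heq).hom ≫ S.arrow = m' ≫ S.arrow := by simp
  rw [cancel_mono] at h1
  show IsIso m'
  rw [← h1]
  infer_instance

variable [HasFiniteLimits C] [PreservesFiniteLimits F]

/-- Maps out of a minimal element are determined by their value. -/
theorem eq_of_map_eq (p : J F) {Z : C} (f g : p.obj.1 ⟶ Z) (h : F.map f p.obj.2 = F.map g p.obj.2) : f = g := by
  have hlim := isLimitForkMapOfIsLimit F _ (equalizerIsEqualizer f g)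
  obtain ⟨y, hy, -⟩ := Types.unique_of_type_equalizer (F.map (equalizer.ι f g))
    (by rw [← Functor.map_comp, ← Functor.map_comp, equalizer.condition]) hlim p.obj.2 h
  haveI := p.property (equalizer.ι f g) y hy
  rw [← cancel_epi (equalizer.ι f g), equalizer.condition]

theorem exists_pair (X Y : C) (x : F.obj X) (y : F.obj Y) :
    ∃ w : F.obj (X ⨯ Y), F.map prod.fst w = x ∧ F.map prod.snd w = y := by
  have h := isLimitOfHasBinaryProductOfPreservesLimit F X Y
  obtain ⟨w, hw, -⟩ := (Types.isLimit_iff _).1 ⟨h⟩ (fun j => match j with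
    | ⟨WalkingPair.left⟩ => x
    | ⟨WalkingPair.right⟩ => y) (by
      rintro ⟨j⟩ ⟨j'⟩ f
      obtain rfl : j = j' := Discrete.eq_of_hom f
      obtain rfl : f = 𝟙 _ := Subsingleton.elim _ _
      exact Functor.map_id_apply _ _ _)
  exact ⟨w, hw ⟨WalkingPair.left⟩, hw ⟨WalkingPair.right⟩⟩

theorem exists_term : Nonempty (F.obj (⊤_ C)) := by
  have h := isLimitOfHasTerminalOfPreservesLimit F
  exact ⟨((Types.isLimit_iff _).1 ⟨h⟩ (fun j => j.as.elim) (fun {j} => j.as.elim)).exists.choose⟩

theorem isCofiltered [∀ X : C, IsArtinianObject X] : IsCofiltered (J F) where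
  cone_objs p q := by
    obtain ⟨w, hw, hw'⟩ := exists_pair F p.obj.1 q.obj.1 p.obj.2 q.obj.2
    obtain ⟨r, m, hm⟩ := exists_min F _ w
    refine ⟨r, ⟨CategoryOfElements.homMk _ _ (m ≫ prod.fst) ?_⟩, ⟨CategoryOfElements.homMk _ _ (m ≫ prod.snd) ?_⟩,
      trivial⟩
    · rw [Functor.map_comp_apply, hm, hw]
    · rw [Functor.map_comp_apply, hm, hw']
  cone_maps p q f g := ⟨p, 𝟙 p, by
    rw [Category.id_comp, Category.id_comp]
    exact ObjectProperty.hom_ext _ (CategoryOfElements.ext F _ _
      (eq_of_map_eq F p f.hom.1 g.hom.1 (f.hom.2.trans g.hom.2.symm)))⟩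
  nonempty := by
    obtain ⟨t⟩ := exists_term F
    exact ⟨(exists_min F _ t).choose⟩

theorem epi_map {p q : J F} (a : p ⟶ q) : Epi ((D F).map a) where
  left_cancellation {Z} f g h := by
    refine eq_of_map_eq F q f g ?_
    rw [← a.hom.2, ← Functor.map_comp_apply, ← Functor.map_comp_apply]
    exact congrArg (fun k => F.map k p.obj.2) h

/-- The cocone of the minimal elements. -/
noncomputable def cocone : Cocone ((D F).op ⋙ coyoneda) where
  pt := F
  ι :=
    { app := fun j => coyonedaEquiv.symm j.unop.obj.2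
      naturality := fun j j' a => by
        ext Z f
        show F.map (a.unop.hom.1 ≫ f) j'.unop.obj.2 = F.map f j.unop.obj.2
        rw [Functor.map_comp_apply]
        exact congrArg (F.map f) a.unop.hom.2 }

theorem nonempty_iso [∀ X : C, IsArtinianObject X] : Nonempty (F ≅ colimit ((D F).op ⋙ coyoneda)) := by
  haveI : ∀ Z, IsIso ((colimit.desc ((D F).op ⋙ coyoneda) (cocone F)).app Z) := by
    intro Z
    let ev := (evaluation C (Type u)).obj Z
    have hc := isColimitOfPreserves ev (colimit.isColimit ((D F).op ⋙ coyoneda))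
    have hval : ∀ (j : (J F)ᵒᵖ) (f : (((D F).op ⋙ coyoneda).obj j).obj Z),
        (colimit.desc ((D F).op ⋙ coyoneda) (cocone F)).app Z ((colimit.ι ((D F).op ⋙ coyoneda) j).app Z f) =
          F.map f j.unop.obj.2 := fun j f => by
      show ((colimit.ι _ j ≫ colimit.desc _ (cocone F)).app Z) f = _
      rw [colimit.ι_desc]
      rfl
    rw [isIso_iff_bijective]
    constructor
    · intro a b hab
      obtain ⟨j, f, rfl⟩ := Types.jointly_surjective_of_isColimit hc a
      obtain ⟨j', f', rfl⟩ := Types.jointly_surjective_of_isColimit hc b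
      haveI := isCofiltered F
      obtain ⟨r, a₁, a₂, -⟩ := IsCofilteredOrEmpty.cone_objs j.unop j'.unop
      have e₁ : (colimit.ι ((D F).op ⋙ coyoneda) (op r)).app Z (a₁.hom.1 ≫ f) =
          (colimit.ι ((D F).op ⋙ coyoneda) j).app Z f :=
        congrArg (fun (m : ((D F).op ⋙ coyoneda).obj j ⟶ colimit _) => m.app Z f) (colimit.w _ a₁.op)
      have e₂ : (colimit.ι ((D F).op ⋙ coyoneda) (op r)).app Z (a₂.hom.1 ≫ f') =
          (colimit.ι ((D F).op ⋙ coyoneda) j').app Z f' :=
        congrArg (fun (m : ((D F).op ⋙ coyoneda).obj j' ⟶ colimit _) => m.app Z f') (colimit.w _ a₂.op)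
      refine e₁.symm.trans (Eq.trans ?_ e₂)
      refine congrArg ((colimit.ι ((D F).op ⋙ coyoneda) (op r)).app Z) (eq_of_map_eq F r _ _ ?_)
      have h' : F.map f j.unop.obj.2 = F.map f' j'.unop.obj.2 := (hval j f).symm.trans (hab.trans (hval j' f'))
      exact ((Functor.map_comp_apply F a₁.hom.1 f r.obj.2).trans (congrArg (F.map f) a₁.hom.2)).trans
        (h'.trans ((Functor.map_comp_apply F a₂.hom.1 f' r.obj.2).trans (congrArg (F.map f') a₂.hom.2)).symm)
    · intro y
      obtain ⟨p, m, hm⟩ := exists_min F _ y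
      exact ⟨(colimit.ι ((D F).op ⋙ coyoneda) (op p)).app Z m, (hval (op p) m).trans hm⟩
  haveI := NatIso.isIso_of_isIso_app (colimit.desc ((D F).op ⋙ coyoneda) (cocone F))
  exact ⟨(asIso (colimit.desc ((D F).op ⋙ coyoneda) (cocone F))).symm⟩

end GrothLib.StrictPro26
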